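import Cfsg.Agent.H606.PQR.Pieces_m3
import Cfsg.Agent.H371.AlgLemma_m3
import Cfsg.Agent.H749.BlockOrth_m3
import Cfsg.Agent.Prune
set_option linter.all false
prune_inst 0x7f00000000000000000000000000000000000000000000000000000000000000000000000000000000000000000000000000000000000000000000000000000000000000000000000000000000000000003fffffffffffffffffffffffffffbeffbdffffffff
open scoped Cfsg.Agent.FastGrp

/-!
# Regular elements of prime power order of `PSL_n(F)` (helper900, for S3988)
-/

set_option autoImplicit false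

namespace Cfsg.Agent.H900.PQR

open Matrix Polynomial Subgroup
open Cfsg.Agent.H562.PQR (PE)
open Cfsg.Agent.Lib.Zsigmondy (dvd_pow_sub_one_iff)

variable {F : Type*} [Field F] [Finite F] {n : ℕ}

omit [Finite F] in
theorem squarefree_of_dvd {f : F[X]} {m : ℕ} (hm : (m : F) ≠ 0) (h : f ∣ X ^ m - 1) : Squarefree f :=
  ((Polynomial.separable_X_pow_sub_C (1 : F) hm one_ne_zero).squarefree).squarefree_of_dvd (by rwa [map_one])

/-- **a regular element of `b`-power order from a polynomial** -/
theorem exists_reg {r : ℕ} [hr : Fact r.Prime] [CharP F r] (hn : 2 ≤ n) {b k : ℕ} (hb : b.Prime) (hbr : b ≠ r)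
    {f : F[X]} (hf : f.Monic) (hdeg : f.natDegree = n) (h0 : (-1) ^ n * f.coeff 0 = 1) (hdvd : f ∣ X ^ (b ^ k) - 1) :
    ∃ y : ProjectiveSpecialLinearGroup (Fin n) F, PE b y ∧
      ¬ r ∣ Nat.card (centralizer ({y} : Set (ProjectiveSpecialLinearGroup (Fin n) F))) := by
  have hm : ((b ^ k : ℕ) : F) ≠ 0 := by
    intro h
    rw [CharP.cast_eq_zero_iff F r] at h
    exact hbr ((Nat.prime_dvd_prime_iff_eq hr.out hb).1 (hr.out.dvd_of_dvd_pow h)).symm
  obtain ⟨A, hdet, hev, hred⟩ := exists_regular hf hdeg (squarefree_of_dvd hm hdvd)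
  rw [h0] at hdet
  have hpow : A ^ (b ^ k) = 1 := by
    have := (hev _).2 hdvd
    rwa [map_sub, map_one, map_pow, aeval_X, sub_eq_zero] at this
  let B : SpecialLinearGroup (Fin n) F := ⟨A, hdet⟩
  refine ⟨pr n F B, ⟨?_, ?_⟩, not_dvd_centralizer B hred⟩
  · intro h1
    have h2 : B ∈ center (SpecialLinearGroup (Fin n) F) := by
      rwa [← QuotientGroup.eq_one_iff]
    obtain ⟨c, -, hc⟩ := Matrix.SpecialLinearGroup.mem_center_iff.mp h2
    have h3 : aeval A (X - C c) = 0 := by
      rw [map_sub, aeval_X, aeval_C, sub_eq_zero]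
      exact hc.symm
    have h4 := Polynomial.natDegree_le_of_dvd ((hev _).1 h3) (X_sub_C_ne_zero c)
    rw [hdeg, natDegree_X_sub_C] at h4
    omega
  · have h1 : (pr n F B) ^ (b ^ k) = 1 := by
      rw [← map_pow]
      have h2 : B ^ (b ^ k) = 1 := Subtype.ext ((Matrix.SpecialLinearGroup.coe_pow B (b ^ k)).trans hpow)
      rw [h2, map_one]
    obtain ⟨j, -, hj⟩ := (Nat.dvd_prime_pow hb).1 (orderOf_dvd_of_pow_eq_one h1)
    exact ⟨j, hj⟩

/-- the constant coefficient of a divisor of `X ^ p - 1`, `p` prime to `q - 1` -/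
theorem coeff_zero {p : ℕ} (hp : p.Prime) (hpF : (p : F) ≠ 0) (hq : ¬ p ∣ Nat.card F - 1) {f : F[X]} (hf : f.Monic)
    (hdeg : f.natDegree = n) (hdvd : f ∣ X ^ p - 1) : (-1) ^ n * f.coeff 0 = 1 := by
  obtain ⟨A, hdet, hev, -⟩ := exists_regular hf hdeg (squarefree_of_dvd hpF hdvd)
  have hpow : A ^ p = 1 := by
    have := (hev _).2 hdvd
    rwa [map_sub, map_one, map_pow, aeval_X, sub_eq_zero] at this
  rw [← hdet]
  apply H371.Psl.eq_one_of_pow hp hq
  rw [← Matrix.det_pow, hpow, Matrix.det_one]

/-- an irreducible polynomial of degree the order of `q` modulo `p` -/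
theorem exists_irred {p : ℕ} (hp : p.Prime) (hn : n ≠ 0) (ho : orderOf ((Nat.card F : ℕ) : ZMod p) = n) :
    ∃ g : F[X], g.Monic ∧ Irreducible g ∧ g.natDegree = n ∧ g ∣ X ^ p - 1 := by
  obtain ⟨L, _, _, _, hcard, hfin⟩ := H749.exists_ext F n hn
  have hq : 1 ≤ Nat.card F := Nat.card_pos
  have hd : p ∣ Nat.card Lˣ := by
    rw [Nat.card_units, hcard, dvd_pow_sub_one_iff hq, ho]
  have : Fact p.Prime := ⟨hp⟩
  have hLfin : Finite Lˣ := inferInstance
  obtain ⟨α, hα⟩ := exists_prime_orderOf_dvd_card' p hd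
  have hmod : Module.Finite F L := Module.finite_of_finrank_pos (by omega)
  have hint : IsIntegral F (α : L) := Algebra.IsIntegral.isIntegral _
  have hαp : (α : L) ^ p = 1 := by
    rw [← Units.val_pow_eq_pow_val, ← hα, pow_orderOf_eq_one, Units.val_one]
  refine ⟨minpoly F (α : L), minpoly.monic hint, minpoly.irreducible hint, ?_, ?_⟩
  · -- the degree
    set d := (minpoly F (α : L)).natDegree with hdd
    have h1 : d ≤ n := by rw [← hfin]; exact minpoly.natDegree_le _
    have h2 : Module.finrank F (IntermediateField.adjoin F {(α : L)}) = d := IntermediateField.adjoin.finrank hint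
    have h3 : Nat.card (IntermediateField.adjoin F {(α : L)}) = Nat.card F ^ d := by
      rw [← h2]
      exact Module.natCard_eq_pow_finrank
    have h0 : 0 < d := minpoly.natDegree_pos hint
    let a : IntermediateField.adjoin F {(α : L)} := ⟨α, IntermediateField.mem_adjoin_simple_self F _⟩
    have ha0 : a ≠ 0 := fun h => α.ne_zero (congrArg Subtype.val h)
    have h4 : orderOf (Units.mk0 a ha0) = p := by
      apply orderOf_eq_prime
      · apply Units.ext
        apply Subtype.ext
        exact hαp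
      · intro h5
        have h6 : (α : L) = 1 := congrArg (fun u : (IntermediateField.adjoin F {(α : L)})ˣ => ((u : IntermediateField.adjoin F {(α : L)}) : L)) h5
        have h7 : α = 1 := Units.ext h6
        rw [h7, orderOf_one] at hα
        exact hp.one_lt.ne hα
    have h5 : p ∣ Nat.card F ^ d - 1 := by
      rw [← h3, ← Nat.card_units, ← h4]
      exact orderOf_dvd_natCard _
    rw [dvd_pow_sub_one_iff hq, ho] at h5
    exact le_antisymm h1 (Nat.le_of_dvd h0 h5)
  · apply minpoly.dvd
    rw [map_sub, map_one, map_pow, aeval_X, hαp, sub_self]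

end Cfsg.Agent.H900.PQR
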